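import Groth.Agent.Lib.OX.PerfectEnvelope
import Mathlib.Data.Countable.Basic
import Groth.Prelude.Def_DCoh3

/-! # Countability of maps from perfect objects -/

set_option autoImplicit false
set_option backward.isDefEq.respectTransparency false
set_option linter.style.haveILetI false
set_option maxHeartbeats 1000000
universe v u

open CategoryTheory CategoryTheory.Limits AlgebraicGeometry Opposite TopologicalSpace Pretriangulated
open GrothLib.OX (genF genSec)

noncomputable section

namespace GrothLib.CountHom20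

section Thick

variable {D : Type u} [Category.{v} D] [Preadditive D] [HasZeroObject D] [HasShift D ℤ]
  [∀ n : ℤ, (shiftFunctor D n).Additive] [Pretriangulated D] (K : D)

/-- All shifts have countably many maps into `K`. -/
def CH (A : D) : Prop := ∀ n : ℤ, Countable (A⟦n⟧ ⟶ K)

theorem countable_of_iso {A B : D} (e : A ≅ B) (h : Countable (A ⟶ K)) : Countable (B ⟶ K) :=
  haveI := h
  e.homFromEquiv.symm.injective.countable

theorem thick_CH : TriCat.Thick (CH K) where
  zero h n := by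
    haveI : Subsingleton (_ ⟶ K) := ⟨fun a b => ((shiftFunctor D n).map_isZero h).eq_of_src a b⟩
    infer_instance
  shift n hA m := countable_of_iso K ((shiftFunctorAdd D n m).app _) (hA (n + m))
  total {A B C} i₁ p₁ i₂ p₂ h hA hB n := by
    haveI := hA n
    haveI := hB n
    refine Function.Injective.countable (f := fun φ : C⟦n⟧ ⟶ K => (i₁⟦n⟧' ≫ φ, i₂⟦n⟧' ≫ φ)) fun a b hab => ?_
    obtain ⟨h₁, h₂⟩ := Prod.mk.injEq _ _ _ _ ▸ hab
    have e : p₁⟦n⟧' ≫ i₁⟦n⟧' + p₂⟦n⟧' ≫ i₂⟦n⟧' = 𝟙 (C⟦n⟧) := by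
      rw [← Functor.map_comp, ← Functor.map_comp, ← Functor.map_add, h, CategoryTheory.Functor.map_id]
    rw [← Category.id_comp a, ← Category.id_comp b, ← e]
    simp only [Preadditive.add_comp, Category.assoc, h₁, h₂]
  cone T hT h₁ h₂ n := by
    let T' := (Triangle.shiftFunctor D n).obj T
    have hT' : T' ∈ distTriang D := Triangle.shift_distinguished _ hT n
    haveI : Countable (T'.obj₂ ⟶ K) := h₂ n
    haveI : Countable (T'.obj₁⟦(1 : ℤ)⟧ ⟶ K) := countable_of_iso K ((shiftFunctorAdd D n 1).app _) (h₁ (n + 1))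
    have hsec : ∀ y : T'.obj₂ ⟶ K, ∃ x : T'.obj₃ ⟶ K, (∃ x', T'.mor₂ ≫ x' = y) → T'.mor₂ ≫ x = y := fun y => by
      by_cases h : ∃ x', T'.mor₂ ≫ x' = y
      · exact ⟨h.choose, fun _ => h.choose_spec⟩
      · exact ⟨0, fun h' => absurd h' h⟩
    choose σ hσ using hsec
    refine Function.Surjective.countable
      (f := fun p : (T'.obj₂ ⟶ K) × (T'.obj₁⟦(1 : ℤ)⟧ ⟶ K) => σ p.1 + T'.mor₃ ≫ p.2) fun (x : T'.obj₃ ⟶ K) => ?_
    obtain ⟨z, hz⟩ := Triangle.yoneda_exact₃ _ hT' (x - σ (T'.mor₂ ≫ x)) (by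
      rw [Preadditive.comp_sub, hσ _ ⟨x, rfl⟩, sub_self])
    refine ⟨(T'.mor₂ ≫ x, z), ?_⟩
    show σ (T'.mor₂ ≫ x) + T'.mor₃ ≫ z = x
    rw [← hz, add_sub_cancel]

end Thick

attribute [local instance] HasDerivedCategory.standard

variable {X : Scheme.{u}} (K : DCoh.D X)

/-- Countably many maps from the generator at an open. -/
def GenC (T : X.Opens) : Prop :=
  ∀ k : ℤ, CH K ((DerivedCategory.singleFunctor X.Modules k).obj ((genF X).obj T))

theorem genC_sup {T U : X.Opens} (hTU : GenC K (T ⊓ U)) (hT : GenC K T) (hU : GenC K U) : GenC K (T ⊔ U) := by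
  intro k
  let hP := thick_CH K
  let S := OX.genMV T U
  let hS := OX.genMV_shortExact T U
  refine hP.of_iso (OX.singleShiftNeg S.X₃ k) (hP.shift (-k) (hP.cone _ hS.singleTriangle_distinguished (hTU 0) ?_))
  let G := SiteDer.tensSh X.ringCatSheaf
  let A := SheafCoh.freeY (Opens.grothendieckTopology X.carrier) T
  let B := SheafCoh.freeY (Opens.grothendieckTopology X.carrier) U
  let F := DerivedCategory.singleFunctor X.Modules 0
  refine hP.total (C := F.obj S.X₂) (F.map (G.map (biprod.inl : A ⟶ A ⊞ B))) (F.map (G.map biprod.fst))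
    (F.map (G.map biprod.inr)) (F.map (G.map biprod.snd)) ?_ (hT 0) (hU 0)
  rw [← F.map_comp, ← F.map_comp, ← F.map_add]
  exact (congrArg F.map (OX.tensSh_total X.ringCatSheaf A B)).trans (F.map_id _)

variable (hK : DCoh.IsQCohD K)
  (hKc : ∀ V : X.Opens, IsAffineOpen V → ∀ i : ℤ, Countable ((DCoh.HD K i).val.obj (op V)))

include hK hKc in
theorem genC_affine {V : X.Opens} (hV : IsAffineOpen V) : GenC K V := fun k n => by
  refine countable_of_iso K (((DerivedCategory.singleFunctors X.Modules).shiftIso n (k - n) k (by omega)).app _).symm ?_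
  haveI : Countable ((genF X).obj V ⟶ DCoh.HD K (k - n)) :=
    haveI : Countable Γ(DCoh.HD K (k - n), V) := hKc V hV (k - n)
    (genSec _ V).injective.countable
  exact (OX.theta_bijective hV hK (k - n)).1.countable

include hK hKc in
theorem genC_iSup_le_affine {B : X.Opens} (hB : IsAffineOpen B) :
    ∀ (n : ℕ) (U : Fin n → X.Opens), (∀ i, IsAffineOpen (U i) ∧ U i ≤ B) → GenC K (⨆ i, U i)
  | 0, U, _ => by rw [iSup_of_empty]; exact genC_affine K hK hKc (isAffineOpen_bot X)
  | n + 1, U, hU => by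
    have e : (⨆ i, U i) = (⨆ i : Fin n, U i.succ) ⊔ U 0 := by
      refine le_antisymm (iSup_le fun i => ?_) (sup_le (iSup_le fun i => le_iSup U i.succ) (le_iSup U 0))
      cases i using Fin.cases with
      | zero => exact le_sup_right
      | succ i => exact le_sup_of_le_left (le_iSup (fun i : Fin n => U i.succ) i)
    rw [e]
    refine genC_sup K ?_ (genC_iSup_le_affine hB n _ fun i => hU _) (genC_affine K hK hKc (hU 0).1)
    rw [iSup_inf_eq]
    refine genC_iSup_le_affine hB n _ fun i => ⟨?_, inf_le_left.trans (hU _).2⟩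
    have : IsAffine B := hB
    have e : ∀ W : X.Opens, W ≤ B → B.ι ''ᵁ (B.ι ⁻¹ᵁ W) = W := fun W hW ↦ by
      rw [Scheme.Hom.image_preimage_eq_opensRange_inf, Scheme.Opens.opensRange_ι, inf_eq_right.2 hW]
    rw [← e (U i.succ ⊓ U 0) (inf_le_left.trans (hU _).2), Scheme.Hom.preimage_inf]
    refine IsAffineOpen.image_of_isOpenImmersion (IsAffineOpen.inf ?_ ?_) _ <;>
      rw [← Scheme.Hom.isAffineOpen_iff_of_isOpenImmersion B.ι, e _ (hU _).2]
    exacts [(hU _).1, (hU _).1]

include hK hKc in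
theorem genC_of_isCompact [QuasiSeparatedSpace X] (T : X.Opens) (hT : IsCompact (T : Set X)) : GenC K T := by
  refine compact_open_induction_on T hT (genC_affine K hK hKc (isAffineOpen_bot X)) fun T hT U ih => ?_
  have hc : IsCompact ((T ⊓ U.1 : X.Opens) : Set X) :=
    QuasiSeparatedSpace.inter_isCompact (T : Set X) (U.1 : Set X) T.2 hT U.1.2 U.2.isCompact
  obtain ⟨ι, _, W, hWA, hWT, hTW⟩ := QCoh.exists_finite_affine_cover hc
  let e := (Fintype.equivFin ι).symm
  have h := genC_iSup_le_affine K hK hKc U.2 _ (W ∘ e) fun i => ⟨hWA _, (hWT _).trans inf_le_right⟩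
  rw [show (⨆ i, (W ∘ e) i) = T ⊓ U.1 from by
    rw [show (⨆ i, (W ∘ e) i) = ⨆ i, W i from e.iSup_comp (g := W)]
    exact le_antisymm (iSup_le hWT) hTW] at h
  exact genC_sup K h ih (genC_affine K hK hKc U.2)

/-- Maps out of `j_!` of a restricted generator are sections. -/
def extZHomEquiv {U : Scheme.{u}} (j : U ⟶ X) [IsOpenImmersion j] (V : X.Opens) (M : X.Modules) :
    ((CxOX.extZero j).obj ((Scheme.Modules.restrictFunctor j).obj ((genF X).obj V)) ⟶ M) ≃
      Γ((Scheme.Modules.pushforward j).obj ((Scheme.Modules.restrictFunctor j).obj M), V) :=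
  ((CxOX.extZeroAdj j).homEquiv _ M).trans
    (((Scheme.Modules.restrictAdjunction j).homEquiv _ _).trans (genSec _ V))

theorem extZHomEquiv_comp {U : Scheme.{u}} (j : U ⟶ X) [IsOpenImmersion j] (V : X.Opens) {M N : X.Modules}
    (g : M ⟶ N) (φ : (CxOX.extZero j).obj ((Scheme.Modules.restrictFunctor j).obj ((genF X).obj V)) ⟶ M) :
    extZHomEquiv j V N (φ ≫ g) =
      ((Scheme.Modules.pushforward j).map ((Scheme.Modules.restrictFunctor j).map g)).app V (extZHomEquiv j V M φ) := by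
  refine Eq.trans (congrArg (fun t => genSec _ V ((Scheme.Modules.restrictAdjunction j).homEquiv _ _ t))
    ((CxOX.extZeroAdj j).homEquiv_naturality_right φ g)) ?_
  refine Eq.trans (congrArg (genSec _ V) ((Scheme.Modules.restrictAdjunction j).homEquiv_naturality_right _ _)) ?_
  exact OX.genSec_comp V _ _

/-- `j_!` of a restricted generator. -/
def extZGenIso {U : Scheme.{u}} (j : U ⟶ X) [IsOpenImmersion j] (V : X.Opens) :
    (genF X).obj (j ''ᵁ (j ⁻¹ᵁ V)) ≅ (CxOX.extZero j).obj ((Scheme.Modules.restrictFunctor j).obj ((genF X).obj V)) :=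
  SiteDer.corepIso
    (F := Scheme.Modules.toPresheaf X ⋙ (evaluation _ _).obj (Opposite.op (j ''ᵁ (j ⁻¹ᵁ V))) ⋙
      CategoryTheory.forget AddCommGrpCat.{u})
    { homEquiv := fun {M} => genSec M (j ''ᵁ (j ⁻¹ᵁ V))
      homEquiv_comp := fun g φ => OX.genSec_comp (j ''ᵁ (j ⁻¹ᵁ V)) φ g }
    { homEquiv := fun {M} => extZHomEquiv j V M
      homEquiv_comp := fun g φ => extZHomEquiv_comp j V g φ }

include hK hKc in
theorem ch_extZD [CompactSpace X] [QuasiSeparatedSpace X] {E : DCoh.D X} (hE : DCoh.IsPerfect E) (U : X.Opens)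
    (hU : IsCompact (U : Set X)) : CH K ((OX.extZD U.ι).obj E) := by
  refine OX.prop_of_isPerfect ((thick_CH K).comap (OX.extZD U.ι)) (fun V hV k => ?_) hE
  refine (thick_CH K).of_iso ((DerivedCategory.singleFunctor X.Modules k).mapIso (extZGenIso U.ι V) ≪≫
    (((OX.extZ U.ι).mapDerivedCategorySingleFunctor k).app ((genF X).obj V)).symm) ?_
  refine genC_of_isCompact K hK hKc _ ?_ k
  rw [Scheme.Hom.image_preimage_eq_opensRange_inf, Scheme.Opens.opensRange_ι]
  exact QuasiSeparatedSpace.inter_isCompact (U : Set X) (V : Set X) U.2 hU V.2 hV.isCompact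

include hK hKc in
theorem countable_hom_restrict [CompactSpace X] [QuasiSeparatedSpace X] {E : DCoh.D X} (hE : DCoh.IsPerfect E)
    (U : X.Opens) (hU : IsCompact (U : Set X)) (i : ℤ) :
    Countable ((OX.resD U.ι).obj E ⟶ ((OX.resD U.ι).obj K)⟦i⟧) := by
  haveI : Countable (((OX.extZD U.ι).obj E)⟦-i⟧ ⟶ K) := ch_extZD K hK hKc hE U hU (-i)
  haveI : Countable ((OX.extZD U.ι).obj E ⟶ K⟦i⟧) :=
    @Function.Surjective.countable (((OX.extZD U.ι).obj E)⟦-i⟧ ⟶ K) _ this _
      ((shiftEquiv (DCoh.D X) i).symm.toAdjunction.homEquiv ((OX.extZD U.ι).obj E) K).surjective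
  let e : ((OX.resD U.ι).obj E ⟶ ((OX.resD U.ι).obj K)⟦i⟧) ≃ ((OX.extZD U.ι).obj E ⟶ K⟦i⟧) :=
    (((OX.resD U.ι).commShiftIso i).app K).symm.homToEquiv.trans
      (((OX.extZeroDAdj U.ι).homEquiv _ _).symm.trans ((OX.extZDCompIso U.ι).app E).homFromEquiv)
  exact e.injective.countable

end GrothLib.CountHom20
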